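import Groth.Prelude.Def_Red

/-!
# Models of homomorphisms of group schemes over a subring of the base ring: definition

`HomModel u A₀ φ`: the homomorphism `u : G ⟶ H` of groups over `Spec A` is the base change along
`φ : A₀ → A` of a homomorphism of groups over `Spec A₀`.
-/

set_option autoImplicit false
universe u
open CategoryTheory MonoidalCategory CartesianMonoidalCategory MonObj GrpObj AlgebraicGeometry

namespace Groth.Agent.Sga3.H825.GrpModelDef

/-- A homomorphism `u : G ⟶ H` of groups over `Spec A` is the base change along `φ : A₀ → A` of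
the homomorphism `u₀ : G₀ ⟶ H₀` of groups over `Spec A₀`. -/
structure HomModel {A : Type u} [CommRing A] {G H : Over (Spec (CommRingCat.of A))} [GrpObj G]
    [GrpObj H] (u : G ⟶ H) (A₀ : Type u) [CommRing A₀] (φ : A₀ →+* A) where
  /-- the model of the source -/
  G₀ : Over (Spec (CommRingCat.of A₀))
  /-- the model of the target -/
  H₀ : Over (Spec (CommRingCat.of A₀))
  [grpG : GrpObj G₀]
  [grpH : GrpObj H₀]
  /-- the model of the homomorphism -/
  u₀ : G₀ ⟶ H₀
  [isMonHom : IsMonHom u₀]
  /-- the base change of the model of the source -/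
  eG : Red.bc (Spec.map (CommRingCat.ofHom φ)) G₀ ≅ G
  /-- the base change of the model of the target -/
  eH : Red.bc (Spec.map (CommRingCat.ofHom φ)) H₀ ≅ H
  [isMonHomG : IsMonHom eG.hom]
  [isMonHomH : IsMonHom eH.hom]
  w : (Over.pullback (Spec.map (CommRingCat.ofHom φ))).map u₀ ≫ eH.hom = eG.hom ≫ u

attribute [instance] HomModel.grpG HomModel.grpH HomModel.isMonHom HomModel.isMonHomG
  HomModel.isMonHomH

end Groth.Agent.Sga3.H825.GrpModelDef
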