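import Groth.Agent.Sga3.H825.RedDvr
import Mathlib.AlgebraicGeometry.ZariskisMainTheorem

/-!
# From the lifting property over valuation rings to (closed) immersions over any base

* `exists_lift_of_valLift`: lifting problems for a monomorphism of group schemes over any base;
* `isClosedImmersion_of_valLift`: closed immersions.
-/

set_option autoImplicit false
open CategoryTheory MonoidalCategory CartesianMonoidalCategory MonObj GrpObj AlgebraicGeometry
open CategoryTheory.Limits IsLocalRing
universe u

namespace Groth.Agent.Sga3.H825.RedVal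

open Groth.Agent.Sga3B Groth.Agent.Sga3.H825.FibProp Groth.Agent.Sga3.H825.RedDvr

/-- The lifting property over valuation rings gives lifts over any base. -/
theorem exists_lift_of_valLift {b : Prop} {P : FProp.{u}} (hV : ValLift b P) {S : Scheme.{u}}
    (G H : Over S) [GrpObj G] [GrpObj H] [Smooth G.hom] [QuasiCompact G.hom]
    [QuasiSeparated G.hom] [LocallyOfFinitePresentation H.hom] [QuasiCompact H.hom]
    [QuasiSeparated H.hom] (u : G ⟶ H) [IsMonHom u] [Mono u] (hP : FibP P G)
    (hsep : ¬ b → IsSeparated H.hom)
    (R K : Type u) [CommRing R] [IsDomain R] [ValuationRing R] [Field K] [Algebra R K]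
    [IsFractionRing R K] (i₁ : Spec (CommRingCat.of K) ⟶ G.left)
    (i₂ : Spec (CommRingCat.of R) ⟶ H.left)
    (comm : i₁ ≫ u.left = Spec.map (CommRingCat.ofHom (algebraMap R K)) ≫ i₂)
    (hcl : b → i₂ (closedPoint R) ∈ Set.range u.left) :
    ∃ l : Spec (CommRingCat.of R) ⟶ G.left, l ≫ u.left = i₂ := by
  let x : Spec (CommRingCat.of R) ⟶ S := i₂ ≫ H.hom
  have hw : u.left ≫ H.hom = G.hom := Over.w u
  let g' : Spec (CommRingCat.of K) ⟶ (Red.bc x G).left :=
    pullback.lift i₁ (Spec.map (CommRingCat.ofHom (algebraMap R K))) (by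
      rw [← hw, reassoc_of% comm])
  let h' : Spec (CommRingCat.of R) ⟶ (Red.bc x H).left :=
    pullback.lift i₂ (𝟙 _) (by rw [Category.id_comp])
  have hu' : ((Over.pullback x).map u).left ≫ pullback.fst H.hom x =
    pullback.fst G.hom x ≫ u.left := pullback.lift_fst _ _ _
  have hu'' : ((Over.pullback x).map u).left ≫ pullback.snd H.hom x =
    pullback.snd G.hom x := pullback.lift_snd _ _ _
  have hpb : IsPullback (pullback.fst G.hom x) ((Over.pullback x).map u).left
      u.left (pullback.fst H.hom x) := by
    refine IsPullback.of_bot (v₂₁ := pullback.snd H.hom x) (v₂₂ := H.hom)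
      (h₃₁ := x) ?_ hu'.symm (IsPullback.of_hasPullback _ _)
    rw [hu'', hw]
    exact IsPullback.of_hasPullback _ _
  have hmonou : Mono ((Over.pullback x).map u) := inferInstance
  have i1 : Smooth (Red.bc x G).hom := inferInstanceAs (Smooth (pullback.snd G.hom x))
  have i2 : QuasiCompact (Red.bc x G).hom := inferInstanceAs (QuasiCompact (pullback.snd G.hom x))
  have i3 : QuasiSeparated (Red.bc x G).hom :=
    inferInstanceAs (QuasiSeparated (pullback.snd G.hom x))
  have i4 : LocallyOfFinitePresentation (Red.bc x H).hom :=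
    inferInstanceAs (LocallyOfFinitePresentation (pullback.snd H.hom x))
  have i5 : QuasiCompact (Red.bc x H).hom := inferInstanceAs (QuasiCompact (pullback.snd H.hom x))
  have i6 : QuasiSeparated (Red.bc x H).hom :=
    inferInstanceAs (QuasiSeparated (pullback.snd H.hom x))
  have hB : g' ≫ ((Over.pullback x).map u).left =
      Spec.map (CommRingCat.ofHom (algebraMap R K)) ≫ h' := by
    apply pullback.hom_ext
    · rw [Category.assoc, hu', pullback.lift_fst_assoc, Category.assoc, pullback.lift_fst, comm]
    · rw [Category.assoc, hu'', pullback.lift_snd, Category.assoc, pullback.lift_snd,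
        Category.comp_id]
  have hC : b → h' (closedPoint R) ∈ Set.range ((Over.pullback x).map u).left := by
    intro hb
    obtain ⟨z, hz⟩ := hcl hb
    have h2 : (pullback.fst H.hom x) (h' (closedPoint R)) = u.left z := by
      rw [hz]
      have h3 : h' ≫ pullback.fst H.hom x = i₂ := pullback.lift_fst _ _ _
      rw [← h3]
      exact (Scheme.Hom.comp_apply _ _ _).symm
    obtain ⟨w, -, hw'⟩ := Scheme.exists_preimage_of_isPullback hpb z
      (h' (closedPoint R)) h2.symm
    exact ⟨w, hw'⟩
  have hS : ¬ b → IsSeparated (Red.bc x H).hom := fun hb => by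
    have := hsep hb
    exact inferInstanceAs (IsSeparated (pullback.snd H.hom x))
  obtain ⟨l', hl'⟩ := hV R K (Red.bc x G) (Red.bc x H) ((Over.pullback x).map u)
    g' h' hS (hP.bc x) (pullback.lift_snd _ _ _) hB hC
  refine ⟨l' ≫ pullback.fst G.hom x, ?_⟩
  rw [Category.assoc, ← hu', reassoc_of% hl']
  exact pullback.lift_fst _ _ _

/-- **Closed immersions from the lifting property over valuation rings.** -/
theorem isClosedImmersion_of_valLift {P : FProp.{u}} (hV : ValLift False P) {S : Scheme.{u}}
    (G H : Over S) [GrpObj G] [GrpObj H] [Smooth G.hom] [QuasiCompact G.hom]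
    [QuasiSeparated G.hom] [LocallyOfFinitePresentation H.hom] [QuasiCompact H.hom]
    [IsSeparated H.hom] (u : G ⟶ H) [IsMonHom u] [Mono u] (hP : FibP P G) :
    IsClosedImmersion u.left := by
  have hm : Mono u.left := mono_left u
  have hw : u.left ≫ H.hom = G.hom := Over.w u
  have hqc : QuasiCompact u.left := by
    have : QuasiCompact (u.left ≫ H.hom) := by rw [hw]; infer_instance
    exact QuasiCompact.of_comp _ H.hom
  have hlft : LocallyOfFiniteType u.left := by
    have : LocallyOfFiniteType (u.left ≫ H.hom) := by rw [hw]; infer_instance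
    exact locallyOfFiniteType_of_comp _ H.hom
  have huc : UniversallyClosed u.left := by
    refine .of_valuativeCriterion _ ?_
    intro Sq
    obtain ⟨l, hl⟩ := exists_lift_of_valLift hV G H u hP (fun _ => inferInstance) Sq.R Sq.K
      Sq.i₁ Sq.i₂ Sq.commSq.w (fun h => h.elim)
    refine ⟨⟨⟨l, ?_, hl⟩⟩⟩
    rw [← cancel_mono u.left, Category.assoc, hl]
    exact Sq.commSq.w.symm
  rw [IsClosedImmersion.iff_isProper_and_mono]
  exact ⟨{ }, hm⟩

end Groth.Agent.Sga3.H825.RedVal
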