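import Mathlib.RingTheory.Valuation.LocalSubring
import Mathlib.RingTheory.LocalRing.ResidueField.Basic
import Mathlib.FieldTheory.IsAlgClosed.AlgebraicClosure
import Mathlib.RingTheory.MvPolynomial.Basic

/-!
# Extensions of local domains to valuation rings with large residue field and fraction field

`exists_valuation_ext`: `R` a local domain with fraction field `K` and residue field `k`; for field
extensions `K → K₁`, `k → k₁` there is a valuation ring `V` of an algebraically closed field `Ω`
containing `K₁`, dominating `R`, whose residue field contains `k₁`.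
-/

set_option autoImplicit false
open IsLocalRing
universe u

namespace Groth.Agent.Sga3.H825.ValExt

theorem exists_valuation_ext (R : Type u) [CommRing R] [IsDomain R] [IsLocalRing R]
    (K : Type u) [Field K] [Algebra R K] [IsFractionRing R K] (K₁ k₁ : Type u) [Field K₁]
    [Field k₁] (α : K →+* K₁) (β : ResidueField R →+* k₁) :
    ∃ (Ω : Type u) (_ : Field Ω) (_ : IsAlgClosed Ω) (V : ValuationSubring Ω) (ρ : R →+* V)
      (_ : IsLocalHom ρ) (a : K₁ →+* Ω) (b : k₁ →+* ResidueField V),
      (∀ r, (ρ r : Ω) = a (α (algebraMap R K r))) ∧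
      ∀ r, residue V (ρ r) = b (β (residue R r)) := by
  classical
  let P : Type u := MvPolynomial k₁ R
  let e : P →+* k₁ := MvPolynomial.eval₂Hom (β.comp (residue R)) id
  have he : Function.Surjective e := fun c => ⟨(MvPolynomial.X c : MvPolynomial k₁ R),
    MvPolynomial.eval₂_X _ _ _⟩
  have heC : ∀ r : R, e (MvPolynomial.C r) = β (residue R r) := fun r =>
    MvPolynomial.eval₂_C _ _ _
  let F : Type u := FractionRing (MvPolynomial k₁ K₁)
  let Ω : Type u := AlgebraicClosure F
  let a : K₁ →+* Ω := (algebraMap F Ω).comp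
    ((algebraMap (MvPolynomial k₁ K₁) F).comp MvPolynomial.C)
  let j : R →+* K₁ := α.comp (algebraMap R K)
  have hj : Function.Injective j := α.injective.comp (IsFractionRing.injective R K)
  let i : P →+* Ω := (algebraMap F Ω).comp
    ((algebraMap (MvPolynomial k₁ K₁) F).comp (MvPolynomial.map j))
  have hi : Function.Injective i :=
    (algebraMap F Ω).injective.comp ((IsFractionRing.injective _ F).comp
      (MvPolynomial.map_injective j hj))
  let A : Subring Ω := i.range
  let i' : P ≃+* A := RingEquiv.ofBijective i.rangeRestrict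
    ⟨fun x y h => hi (congrArg Subtype.val h), i.rangeRestrict_surjective⟩
  let I : Ideal A := (RingHom.ker e).comap i'.symm.toRingHom
  have hI : I ≠ ⊤ := by
    intro h
    have h1 : (1 : A) ∈ I := h ▸ Submodule.mem_top
    have h2 : e (i'.symm 1) = 0 := h1
    rw [map_one, map_one] at h2
    exact one_ne_zero h2
  obtain ⟨V, hV1, hV2⟩ := Ideal.image_subset_nonunits_valuationSubring I hI
  have hmem : ∀ x : P, i x ∈ V := fun x => hV1 ⟨x, rfl⟩
  let ψ : P →+* V := i.codRestrict V.toSubring hmem
  have hψ : ∀ x, e x = 0 → ψ x ∈ maximalIdeal V := by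
    intro x hx
    have h1 : (i' x) ∈ I := by
      change e (i'.symm (i' x)) = 0
      rw [i'.symm_apply_apply, hx]
    have h2 : i x ∈ V.nonunits := hV2 ⟨i' x, h1, rfl⟩
    rw [ValuationSubring.mem_nonunits_iff_exists_mem_maximalIdeal] at h2
    obtain ⟨h3, h4⟩ := h2
    exact h4
  have hC : ∀ r : R, i (MvPolynomial.C r) = a (α (algebraMap R K r)) := fun r =>
    congrArg (algebraMap F Ω) (congrArg (algebraMap (MvPolynomial k₁ K₁) F)
      (MvPolynomial.map_C j r))
  let ρ : R →+* V := ψ.comp MvPolynomial.C
  have hρ : IsLocalHom ρ := by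
    constructor
    intro r hr
    by_contra h
    have h1 : r ∈ maximalIdeal R := h
    have h2 : e (MvPolynomial.C r) = 0 := by
      have h3 : residue R r = 0 := (residue_eq_zero_iff r).2 h1
      rw [heC, h3, map_zero]
    exact (hψ _ h2 : ρ r ∈ maximalIdeal V) hr
  let b : k₁ →+* ResidueField V := (RingHom.liftOfSurjective e he)
    ⟨(residue V).comp ψ, fun x hx => by
      rw [RingHom.mem_ker] at hx ⊢
      exact (residue_eq_zero_iff _).2 (hψ x hx)⟩
  have hb : ∀ x, b (e x) = residue V (ψ x) := fun x =>
    RingHom.liftOfRightInverse_comp_apply e _ _ _ x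
  refine ⟨Ω, inferInstance, inferInstance, V, ρ, hρ, a, b, fun r => hC r, fun r => ?_⟩
  rw [← heC r, hb]
  rfl

end Groth.Agent.Sga3.H825.ValExt
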