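import Groth.Agent.Sga3.H825.CoreV
import Groth.Agent.Sga3.H825.ValExt
import Groth.Agent.Sga3.H825.RedVal
import Groth.Agent.Sga3.H515.GrpModel

/-!
# The lifting property over discrete valuation rings
-/

set_option autoImplicit false
open CategoryTheory MonoidalCategory CartesianMonoidalCategory MonObj GrpObj AlgebraicGeometry
open CategoryTheory.Limits IsLocalRing
universe u

namespace Groth.Agent.Sga3.H825.DvrMain

open Groth.Agent.Sga3B FibProp FieldQ RedDvr
open Groth.Agent.Sga3.H832 Groth.Agent.Sga3.H832.TorExt Groth.Agent.Sga3.H832.HensPt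

section pt1

variable {S S' : Scheme.{u}} (y : S' ⟶ S)

/-- the point of a base change attached to a morphism -/
noncomputable def pt1 (G : Over S) {X : Over S'} (a : X.left ⟶ G.left)
    (ha : a ≫ G.hom = X.hom ≫ y) : X ⟶ Red.bc y G :=
  Over.homMk (pullback.lift a X.hom ha) (pullback.lift_snd _ _ _)

lemma pt1_fst (G : Over S) {X : Over S'} (a : X.left ⟶ G.left) (ha : a ≫ G.hom = X.hom ≫ y) :
    (pt1 y G a ha).left ≫ pullback.fst G.hom y = a := pullback.lift_fst _ _ _

lemma hom_ext1 {G : Over S} {X : Over S'} {a b : X ⟶ Red.bc y G}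
    (h : a.left ≫ pullback.fst G.hom y = b.left ≫ pullback.fst G.hom y) : a = b := by
  ext1
  exact pullback.hom_ext h ((Over.w a).trans (Over.w b).symm)

end pt1

/-- transfer of `QGrp` along a commutative square of ring maps -/
lemma qGrp_transfer {R V : Type u} [CommRing R] [CommRing V] (ρ : R →+* V)
    {K K₁ Ω : Type u} [Field K] [Field K₁] [Field Ω] (i : R →+* K) (α : K →+* K₁) (a : K₁ →+* Ω)
    (j : V →+* Ω) (hc : ∀ r, j (ρ r) = a (α (i r))) (G : Over (Spec (CommRingCat.of R))) [GrpObj G]
    (h : QGrp K₁ (Red.bc (Spec.map (CommRingCat.ofHom α))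
      (Red.bc (Spec.map (CommRingCat.ofHom i)) G))) :
    QGrp Ω (Red.bc (Spec.map (CommRingCat.ofHom j)) (Red.bc (Spec.map (CommRingCat.ofHom ρ)) G)) := by
  have h1 := h.bc a
  have h2 := h1.of_iso (bcComp α a _).symm
  have h3 := h2.of_iso (BcIso.bcCompIso _ _ G).symm
  refine h3.of_iso (BcIso.bcCongrIso ?_ G ≪≫ BcIso.bcCompIso _ _ G)
  rw [← Spec.map_comp, ← Spec.map_comp]
  congr 1
  ext r
  exact (hc r).symm

theorem dvrLift (b : Prop) : DvrLift b qProp.{u} := by
  intro R _ _ _ K _ _ _ G H _ _ _ _ _ _ _ _ u _ _ g h hsep hP hh hg hb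
  obtain ⟨K₁, _, α, hQK⟩ := hP K (Spec.map (CommRingCat.ofHom (algebraMap R K)))
  obtain ⟨k₁, _, β, hQk⟩ := hP (ResidueField R) (Spec.map (CommRingCat.ofHom (residue R)))
  obtain ⟨Ω, _, _, V, ρ, hρ, a, c, ha, hc⟩ := ValExt.exists_valuation_ext R K K₁ k₁ α β
  have hρi : Function.Injective ρ := by
    intro x y hxy
    have h1 : a (α (algebraMap R K x)) = a (α (algebraMap R K y)) := by
      rw [← ha, ← ha, hxy]
    exact IsFractionRing.injective R K (α.injective (a.injective h1))
  have haff : IsAffine G.left := FibCons.isAffine_dvr G hP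
  let y : Spec (CommRingCat.of V) ⟶ Spec (CommRingCat.of R) := Spec.map (CommRingCat.ofHom ρ)
  have i0 : IsAffineHom G.hom := isAffineHom_of_isAffine _
  have i1 : Smooth (Red.bc y G).hom := inferInstanceAs (Smooth (pullback.snd G.hom y))
  have i2 : QuasiCompact (Red.bc y G).hom := inferInstanceAs (QuasiCompact (pullback.snd G.hom y))
  have i3 : IsAffineHom (Red.bc y G).hom := inferInstanceAs (IsAffineHom (pullback.snd G.hom y))
  have i4 : LocallyOfFinitePresentation (Red.bc y H).hom :=
    inferInstanceAs (LocallyOfFinitePresentation (pullback.snd H.hom y))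
  have i5 : QuasiCompact (Red.bc y H).hom := inferInstanceAs (QuasiCompact (pullback.snd H.hom y))
  have i6 : QuasiSeparated (Red.bc y H).hom :=
    inferInstanceAs (QuasiSeparated (pullback.snd H.hom y))
  have i7 : Mono ((Over.pullback y).map u) := inferInstance
  have hS : ¬ b → IsSeparated (Red.bc y H).hom := fun hb => by
    have := hsep hb
    exact inferInstanceAs (IsSeparated (pullback.snd H.hom y))
  have hu' : ((Over.pullback y).map u).left ≫ pullback.fst H.hom y =
    pullback.fst G.hom y ≫ u.left := pullback.lift_fst _ _ _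
  have hGw : u.left ≫ H.hom = G.hom := Over.w u
  -- the points
  let h₀ : Spec (CommRingCat.of V) ⟶ H.left := y ≫ h
  let h₁ : 𝟙_ (Over (Spec (CommRingCat.of V))) ⟶ Red.bc y H := pt1 y H h₀ (by
    change (y ≫ h) ≫ H.hom = 𝟙 _ ≫ y
    rw [Category.assoc, hh, Category.comp_id, Category.id_comp])
  have hh₁ : h₁.left ≫ pullback.fst H.hom y = h₀ := pt1_fst _ _ _ _
  have hyK : Spec.map (CommRingCat.ofHom (algebraMap V Ω)) ≫ y =
      Spec.map (CommRingCat.ofHom (a.comp α)) ≫ Spec.map (CommRingCat.ofHom (algebraMap R K)) := by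
    rw [← Spec.map_comp, ← Spec.map_comp]
    congr 1
    ext r
    exact ha r
  let gK : gen V Ω ⟶ Red.bc y G := pt1 y G (Spec.map (CommRingCat.ofHom (a.comp α)) ≫ g) (by
    change (Spec.map (CommRingCat.ofHom (a.comp α)) ≫ g) ≫ G.hom =
      Spec.map (CommRingCat.ofHom (algebraMap V Ω)) ≫ y
    rw [hyK, Category.assoc, ← hGw, reassoc_of% hg, hh, Category.comp_id])
  have hgK₁ : gK.left ≫ pullback.fst G.hom y = Spec.map (CommRingCat.ofHom (a.comp α)) ≫ g :=
    pt1_fst _ _ _ _
  have hgK : gK ≫ (Over.pullback y).map u = toUnit _ ≫ h₁ := by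
    refine hom_ext1 y ?_
    rw [Over.comp_left, Category.assoc, hu', reassoc_of% hgK₁, Over.comp_left, Category.assoc,
      hh₁, hg, Over.toUnit_left]
    change _ = Spec.map (CommRingCat.ofHom (algebraMap V Ω)) ≫ y ≫ h
    rw [← Category.assoc, ← hyK, Category.assoc]
  have hbk : b → ∃ gk : clo V ⟶ Red.bc y G, gk ≫ (Over.pullback y).map u = toUnit _ ≫ h₁ := by
    intro hb'
    have hm : Mono u.left := mono_left u
    obtain ⟨x, hx⟩ := H824.ImmVal.exists_lift_of_mem_range u.left
      (Spec.map (CommRingCat.ofHom (residue R)) ≫ h) (closedPoint (ResidueField R)) (by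
        have h1 : Spec.map (CommRingCat.ofHom (residue R)) (closedPoint (ResidueField R)) =
          closedPoint R := comap_closedPoint (residue R)
        rw [Scheme.Hom.comp_apply, h1]
        exact hb hb')
    have hyk : Spec.map (CommRingCat.ofHom (residue V)) ≫ y =
        Spec.map (CommRingCat.ofHom (ResidueField.map ρ)) ≫
          Spec.map (CommRingCat.ofHom (residue R)) := by
      rw [← Spec.map_comp, ← Spec.map_comp]
      rfl
    let gk : clo V ⟶ Red.bc y G :=
      pt1 y G (Spec.map (CommRingCat.ofHom (ResidueField.map ρ)) ≫ x) (by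
        change (Spec.map (CommRingCat.ofHom (ResidueField.map ρ)) ≫ x) ≫ G.hom =
          Spec.map (CommRingCat.ofHom (residue V)) ≫ y
        rw [hyk, Category.assoc, ← hGw, reassoc_of% hx, hh, Category.comp_id])
    have hgk₁ : gk.left ≫ pullback.fst G.hom y =
        Spec.map (CommRingCat.ofHom (ResidueField.map ρ)) ≫ x := pt1_fst _ _ _ _
    refine ⟨gk, hom_ext1 y ?_⟩
    rw [Over.comp_left, Category.assoc, hu', reassoc_of% hgk₁, Over.comp_left, Category.assoc,
      hh₁, hx, Over.toUnit_left]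
    change _ = Spec.map (CommRingCat.ofHom (residue V)) ≫ y ≫ h
    rw [← Category.assoc, ← hyk, Category.assoc]
  obtain ⟨l, hl⟩ := CoreV.exists_lift_core b V Ω hS (hP.bc y)
    (qGrp_transfer ρ _ α a (algebraMap V Ω) (fun r => ha r) G hQK)
    (qGrp_transfer ρ _ β c (residue V) (fun r => hc r) G hQk)
    ((Over.pullback y).map u) h₁ gK hgK hbk
  have hm : Mono u.left := mono_left u
  refine H824.ImmVal.exists_lift_of_extension u.left ρ hρi h (l.left ≫ pullback.fst G.hom y) ?_
  rw [Category.assoc, ← hu', ← Category.assoc, ← Over.comp_left, hl, hh₁]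

end Groth.Agent.Sga3.H825.DvrMain
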