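import Groth.Agent.Sga3.H825.FieldQ
import Groth.Agent.Sga3.H784.NAMain
import Mathlib.AlgebraicGeometry.Fiber

/-!
# Groups of unipotent rank zero with affine connected solvable fibres satisfy `FibP qProp`
-/

set_option autoImplicit false
open CategoryTheory MonoidalCategory CartesianMonoidalCategory MonObj GrpObj AlgebraicGeometry
open CategoryTheory.Limits
universe u

namespace Groth.Agent.Sga3.H825.HypQ

open Groth.Agent.Sga3B FibProp FieldQ

theorem fibP_of_hyp {S : Scheme.{u}} (G : Over S) [GrpObj G] [Smooth G.hom]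
    (hu0 : SGA3x.UnipotentRankZero G)
    (haff : ∀ s : S, IsAffine (pullback G.hom (S.fromSpecResidueField s)))
    (hconn : ∀ s : S, _root_.IsConnected (G.hom.base ⁻¹' {s}))
    (hsolv : ∀ s : S, Red.IsSolvableGrp (Red.geomFibre s G)) : FibP qProp.{u} G := by
  refine fibP_of_residueField qProp G fun s => ?_
  let φ : S.residueField s →+* AlgebraicClosure (S.residueField s) := algebraMap _ _
  refine ⟨AlgebraicClosure (S.residueField s), inferInstance, φ, ?_⟩
  have hc1 : ConnectedSpace ↥(pullback G.hom (S.fromSpecResidueField s)) := by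
    have h1 : ConnectedSpace ↥(G.hom ⁻¹' {s}) := isConnected_iff_connectedSpace.1 (hconn s)
    exact (G.hom.fiberHomeo s).symm.surjective.connectedSpace (G.hom.fiberHomeo s).symm.continuous
  let G₁ : Over (Spec (CommRingCat.of (S.residueField s))) := Red.bc (S.fromSpecResidueField s) G
  let _ : GrpObj G₁ := inferInstanceAs (GrpObj (Red.bc (S.fromSpecResidueField s) G))
  have hc2 : ConnectedSpace ↥G₁.left := hc1
  have haf : IsAffine G₁.left := haff s
  let G' := Red.bc (Spec.map (CommRingCat.ofHom φ)) G₁
  have h3 : ConnectedSpace ↥G'.left :=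
    (Groth.Agent.Agf.H590.CentConn.geometricallyConnected_of_grp _
      G₁).geometrically_connectedSpace
      _ _ _ (IsPullback.of_hasPullback _ _)
  have h4 : IsAffine G'.left :=
    inferInstanceAs (IsAffine (pullback G₁.hom _))
  let e : Grp.mk (Red.geomFibre s G) ≅ Grp.mk G' := BcIso.bcCompIso _ _ G
  have hlft : LocallyOfFiniteType (Red.geomFibre s G).hom :=
    inferInstanceAs (LocallyOfFiniteType (pullback.snd G.hom (Red.geomPt s)))
  obtain ⟨T, _, i, hi⟩ := H784.NAMain.exists_isMaximalTorus (Red.geomFibre s G)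
  let f : Red.geomFibre s G ≅ G' := (Grp.forget _).mapIso e
  have hf : IsMonHom f.hom := e.hom.hom.isMonHom_hom
  exact ⟨h4, h3, ParBc.isSolvableGrp_of_iso e (hsolv s), T, inferInstance, i ≫ f.hom, hi.2.2.1,
    isCentralizerOf_comp_iso (hu0 s T i hi) f⟩

end Groth.Agent.Sga3.H825.HypQ
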