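import Groth.Agent.Sga3.H825.FieldQ
import Groth.Agent.Sga3B.AffDvrGrp789
import Groth.Agent.Sga3C.GrpIrr
import Groth.Agent.Etbase.FpqcDescent

/-!
# Consequences of `FibP qProp G`

The fibres are affine and connected; over a discrete valuation ring `G` is affine.
-/

set_option autoImplicit false
open CategoryTheory MonoidalCategory CartesianMonoidalCategory MonObj GrpObj AlgebraicGeometry
open CategoryTheory.Limits
universe u

namespace Groth.Agent.Sga3.H825.FibCons

open Groth.Agent.Sga3B FibProp FieldQ AffDvrGrp789

variable {S : Scheme.{u}} {G : Over S} [GrpObj G]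

/-- affineness descends along extensions of fields -/
theorem isAffine_of_field_ext {k k' : Type u} [Field k] [Field k'] (φ : k →+* k')
    {X : Scheme.{u}} (f : X ⟶ Spec (CommRingCat.of k))
    (h : IsAffine (pullback f (Spec.map (CommRingCat.ofHom φ)))) : IsAffine X := by
  let q : Spec (CommRingCat.of k') ⟶ Spec (CommRingCat.of k) := Spec.map (CommRingCat.ofHom φ)
  have hq1 : Flat q := by
    rw [Flat.SpecMap_iff]
    algebraize [φ]
    change (algebraMap k k').Flat
    rw [RingHom.flat_algebraMap_iff]
    infer_instance
  have hq2 : Surjective q := ⟨fun x => ⟨IsLocalRing.closedPoint k',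
    Subsingleton.elim (α := PrimeSpectrum k) _ _⟩⟩
  have h1 : IsAffineHom (pullback.snd f q) := isAffineHom_of_isAffine _
  have := Groth.Agent.Etbase.FpqcDescent.descendsAlong_isAffineHom.{u}
  have h2 : IsAffineHom f := MorphismProperty.of_pullback_snd_of_descendsAlong
    (P := @IsAffineHom) (Q := @Surjective ⊓ @Flat ⊓ @QuasiCompact) (f := f) (g := q)
    ⟨⟨inferInstance, inferInstance⟩, inferInstance⟩ h1
  exact isAffine_of_isAffineHom f

theorem affFib (h : FibP qProp.{u} G) : AffFib G.hom := by
  intro F _ t
  obtain ⟨k', _, φ, hq⟩ := h F t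
  exact isAffine_of_field_ext φ (Red.bc t G).hom hq.affine

theorem isConnected_fibre (h : FibP qProp.{u} G) (s : S) :
    _root_.IsConnected (G.hom.base ⁻¹' {s}) := by
  obtain ⟨k', _, φ, hq⟩ := h (S.residueField s) (S.fromSpecResidueField s)
  let x : Spec (CommRingCat.of k') ⟶ S :=
    Spec.map (CommRingCat.ofHom φ) ≫ S.fromSpecResidueField s
  let e := (BcIso.bcCompIso (Spec.map (CommRingCat.ofHom φ)) (S.fromSpecResidueField s) G)
  let f : Red.bc x G ≅ Red.bc (Spec.map (CommRingCat.ofHom φ))
    (Red.bc (S.fromSpecResidueField s) G) := (Grp.forget _).mapIso e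
  have hiso : IsIso f.inv.left := inferInstanceAs (IsIso ((Over.forget _).map f.inv))
  have hc : ConnectedSpace ↥(Red.bc x G).left := by
    have := hq.conn
    exact f.inv.left.homeomorph.surjective.connectedSpace f.inv.left.homeomorph.continuous
  have hc' : ConnectedSpace ↥(pullback G.hom x) := hc
  have h1 : Set.range x = {s} := by
    apply Set.eq_singleton_iff_unique_mem.2 ⟨?_, ?_⟩
    · refine ⟨IsLocalRing.closedPoint k', ?_⟩
      simp only [x, Scheme.Hom.comp_apply]
      exact S.fromSpecResidueField_apply s _
    · rintro _ ⟨y, rfl⟩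
      simp only [x, Scheme.Hom.comp_apply]
      exact S.fromSpecResidueField_apply s _
  have h2 : Set.range (pullback.fst G.hom x) = G.hom ⁻¹' {s} := by
    rw [Scheme.Pullback.range_fst, h1]
  have h3 : _root_.IsConnected (Set.range (pullback.fst G.hom x)) :=
    isConnected_range (pullback.fst G.hom x).continuous
  rw [h2] at h3
  exact h3

theorem geometricallyIrreducible [LocallyOfFiniteType G.hom] (h : FibP qProp.{u} G) :
    GeometricallyIrreducible G.hom := by
  have : GrpObj (Over.mk G.hom) := inferInstanceAs (GrpObj G)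
  exact Sga3C.GrpIrr.geometricallyIrreducible_of_connected_fibres G.hom (isConnected_fibre h)

/-- over a discrete valuation ring, `G` is affine -/
theorem isAffine_dvr {R : Type u} [CommRing R] [IsDomain R] [IsDiscreteValuationRing R]
    (G : Over (Spec (CommRingCat.of R))) [GrpObj G] [Smooth G.hom] [QuasiCompact G.hom]
    (h : FibP qProp.{u} G) : IsAffine G.left := by
  have := geometricallyIrreducible h
  exact AffDvrGrp789.isAffine_dvr G (affFib h)

end Groth.Agent.Sga3.H825.FibCons
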