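import Groth.Agent.Sga3.H825.TorLift
import Groth.Agent.Sga3.H825.FibCons
import Groth.Agent.Sga3.H832.Asm4145
import Groth.Agent.Sga3.H832.AProp

/-!
# The lifting property over valuation rings with algebraically closed fraction field
-/

set_option autoImplicit false
open CategoryTheory MonoidalCategory CartesianMonoidalCategory MonObj GrpObj AlgebraicGeometry
open CategoryTheory.Limits IsLocalRing
universe u

namespace Groth.Agent.Sga3.H825.CoreV

open Groth.Agent.Sga3B MaxTorBc636 SelfCent FibProp FieldQ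
open Groth.Agent.Sga3.H832 Groth.Agent.Sga3.H832.TorExt Groth.Agent.Sga3.H832.HensPt

/-- the geometric closed fibre from the closed fibre -/
theorem qGrp_geomFibre {V : Type u} [CommRing V] [IsLocalRing V]
    (G : Over (Spec (CommRingCat.of V))) [GrpObj G]
    (hQk : QGrp (ResidueField V) (Red.bc (Spec.map (CommRingCat.ofHom (residue V))) G))
    (s₀ : Spec (CommRingCat.of V)) (hs₀ : closedPoint V = s₀) :
    QGrp (AlgebraicClosure ((Spec (CommRingCat.of V)).residueField s₀)) (Red.geomFibre s₀ G) := by
  obtain ⟨f, hf⟩ : ∃ f : CommRingCat.of V ⟶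
      CommRingCat.of (AlgebraicClosure ((Spec (CommRingCat.of V)).residueField s₀)),
      Spec.map f = Red.geomPt s₀ := ⟨Spec.preimage _, Spec.map_preimage _⟩
  have hx : Red.geomPt s₀ (closedPoint (AlgebraicClosure
      ((Spec (CommRingCat.of V)).residueField s₀))) = s₀ := by
    rw [Red.geomPt, Scheme.Hom.comp_apply]
    exact Scheme.fromSpecResidueField_apply _ _
  have hloc : IsLocalHom f.hom := by
    rw [IsLocalRing.isLocalHom_iff_comap_closedPoint]
    rw [← hf] at hx
    exact hx.trans hs₀.symm
  let φ : ResidueField V →+* AlgebraicClosure ((Spec (CommRingCat.of V)).residueField s₀) :=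
    ResidueField.lift f.hom
  have h1 := hQk.bc φ
  have h2 : Spec.map (CommRingCat.ofHom φ) ≫ Spec.map (CommRingCat.ofHom (residue V)) =
      Red.geomPt s₀ := by
    rw [← hf, ← Spec.map_comp]
    congr 1
  exact h1.of_iso ((BcIso.bcCompIso _ _ G).symm ≪≫ BcIso.bcCongrIso h2 G)

/-- the geometric fibres are connected -/
theorem connectedSpace_geomFibre {S : Scheme.{u}} (G : Over S) [GrpObj G]
    [LocallyOfFiniteType G.hom] (hP : FibP qProp.{u} G) (s : S) :
    ConnectedSpace ↥(Red.geomFibre s G).left := by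
  have hgi := FibCons.geometricallyIrreducible hP
  have h2 : IrreducibleSpace ↥(pullback G.hom (Red.geomPt s)) :=
    GeometricallyIrreducible.geometrically_irreducibleSpace (f := G.hom) _ _ _
      (.of_hasPullback _ _)
  change ConnectedSpace ↥(pullback G.hom (Red.geomPt s))
  infer_instance

/-- **The lifting property over a valuation ring with algebraically closed fraction field.** -/
theorem exists_lift_core (b : Prop) (V Ω : Type u) [CommRing V] [IsDomain V] [ValuationRing V]
    [Field Ω] [IsAlgClosed Ω] [Algebra V Ω] [IsFractionRing V Ω]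
    {G H : Over (Spec (CommRingCat.of V))} [GrpObj G] [GrpObj H] [Smooth G.hom]
    [QuasiCompact G.hom] [IsAffineHom G.hom] [LocallyOfFinitePresentation H.hom]
    [QuasiCompact H.hom] [QuasiSeparated H.hom]
    (hsep : ¬ b → IsSeparated H.hom) (hP : FibP qProp.{u} G)
    (hQK : QGrp Ω (Red.bc (Spec.map (CommRingCat.ofHom (algebraMap V Ω))) G))
    (hQk : QGrp (ResidueField V) (Red.bc (Spec.map (CommRingCat.ofHom (residue V))) G))
    (u : G ⟶ H) [IsMonHom u] [Mono u] (h : 𝟙_ (Over (Spec (CommRingCat.of V))) ⟶ H)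
    (gK : gen V Ω ⟶ G) (hgK : gK ≫ u = toUnit _ ≫ h)
    (hb : b → ∃ gk : clo V ⟶ G, gk ≫ u = toUnit _ ≫ h) :
    ∃ g : 𝟙_ (Over (Spec (CommRingCat.of V))) ⟶ G, g ≫ u = h := by
  have hens : HenselianLocalRing V := HensVal.henselianLocalRing V Ω
  have hac : IsAlgClosed (ResidueField V) := HensVal.isAlgClosed_residueField V Ω
  have hq := qGrp_geomFibre G hQk _ rfl
  obtain ⟨T₀, _, i₀, hT₀, h₀⟩ := hq.tor
  obtain ⟨n, i, hi⟩ := TorLift.exists_self_torus G (connectedSpace_geomFibre G hP) _ rfl i₀ hT₀ h₀
  have hi1 := hi.1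
  have hi2 := hi.2.1
  have hT : Red.IsTorus (Red.DS (Spec (CommRingCat.of V)) (Fin n → ℤ)) :=
    RG.BrTorus.isTorus_of_isSplitTorusWith ⟨Iso.refl _⟩
  have hs := selfC_of_isCentralizerOf hi
  by_cases hb' : b
  · obtain ⟨gk, hgk⟩ := hb hb'
    have q1 : QuasiCompact u.left := by
      have : QuasiCompact (u.left ≫ H.hom) := by rw [Over.w]; infer_instance
      exact QuasiCompact.of_comp _ H.hom
    have q3 : LocallyOfFiniteType u.left := by
      have : LocallyOfFiniteType (u.left ≫ H.hom) := by rw [Over.w]; infer_instance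
      exact locallyOfFiniteType_of_comp _ H.hom
    exact Asm4144.lift_core AProp.aProp AProp.tProp V Ω u i hT (selfC_bc _ hs) h gK hgK gk hgk
  · have hsH := hsep hb'
    have hnc : Asm4145.NormCent ((Over.pullback
        (Spec.map (CommRingCat.ofHom (algebraMap V Ω)))).map i) := by
      have h1 := hQK.affine
      have h2 := hQK.conn
      have h3 : Smooth (Red.bc (Spec.map (CommRingCat.ofHom (algebraMap V Ω))) G).hom :=
        inferInstanceAs (Smooth (pullback.snd G.hom _))
      have h4 : Mono ((Over.pullback (Spec.map (CommRingCat.ofHom (algebraMap V Ω)))).map i) :=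
        inferInstance
      exact fun n hn => NLSolv.conj_eq hQK.solv _ (TorusBc.isTorus_bc _ hT) n hn
    exact ClosedLift.closed_lift_core AProp.aProp AProp.tProp V Ω u i hT (selfC_bc _ hs)
      (selfC_bc _ hs) (fun n hn => Asm4145.conj_eq_of_normCent _ i hnc n fun X x t => (hn X x t).1)
      h gK hgK

end Groth.Agent.Sga3.H825.CoreV
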