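import Groth.Agent.Ega2.DVRCriterion

/-!
# Lifting problems for valuation rings reduce to discrete valuation rings with the same centre

`exists_lift_of_dvr_pt`: pointwise form of `Ega2.DVRCriterion.existence_of_dvr`: for `f : X ⟶ Y` of
finite type, `Y` locally noetherian, a lifting problem for one valuation ring `R` can be solved if
the lifting problems for the discrete valuation rings of the residue field of the image `ξ` of the
generic point, centred at the same point of `Y` as `R`, can be solved.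
-/

set_option autoImplicit false

universe u

open CategoryTheory CategoryTheory.Limits AlgebraicGeometry IsLocalRing

namespace Groth.Agent.Sga3.H825.DvrLift

open Groth.Agent.Ega2.DVRCriterion

/-- A lifting problem for one valuation ring reduces to discrete valuation rings with the same
centre. -/
theorem exists_lift_of_dvr_pt {X Y : Scheme.{u}} (f : X ⟶ Y) [IsLocallyNoetherian Y]
    [LocallyOfFiniteType f] [QuasiCompact f] (R K : Type u) [CommRing R] [IsDomain R]
    [ValuationRing R] [Field K] [Algebra R K] [IsFractionRing R K]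
    (i₁ : Spec (CommRingCat.of K) ⟶ X) (i₂ : Spec (CommRingCat.of R) ⟶ Y)
    (comm : i₁ ≫ f = Spec.map (CommRingCat.ofHom (algebraMap R K)) ≫ i₂)
    (H : ∀ (V : ValuationSubring (X.residueField (i₁ (closedPoint K)))),
      IsDiscreteValuationRing V → ∀ j₂ : Spec (CommRingCat.of V) ⟶ Y,
        X.fromSpecResidueField (i₁ (closedPoint K)) ≫ f =
          Spec.map (CommRingCat.ofHom (algebraMap V (X.residueField (i₁ (closedPoint K))))) ≫ j₂ →
        j₂ (closedPoint V) = i₂ (closedPoint R) →
        ∃ l : Spec (CommRingCat.of V) ⟶ X, l ≫ f = j₂ ∧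
          Spec.map (CommRingCat.ofHom (algebraMap V (X.residueField (i₁ (closedPoint K))))) ≫ l =
            X.fromSpecResidueField (i₁ (closedPoint K))) :
    ∃ l : Spec (CommRingCat.of R) ⟶ X, l ≫ f = i₂ ∧
      Spec.map (CommRingCat.ofHom (algebraMap R K)) ≫ l = i₁ := by
  set ξ : X := i₁ (closedPoint K) with hξ
  let κ : Type u := X.residueField ξ
  let ι : X.residueField ξ ⟶ CommRingCat.of K :=
    X.descResidueField (Scheme.stalkClosedPointTo i₁)
  have hι : Spec.map ι ≫ X.fromSpecResidueField ξ = i₁ :=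
    Scheme.descResidueField_stalkClosedPointTo_fromSpecResidueField K X i₁
  let VR : ValuationSubring K :=
    ⟨(algebraMap R K).range, ValuationRing.isInteger_or_isInteger R⟩
  let V₀ : ValuationSubring κ := VR.comap ι.hom
  have hV₀ : ∀ x : κ, x ∈ V₀ ↔ ∃ r : R, algebraMap R K r = ι.hom x := fun x => Iff.rfl
  -- the map `V₀ → R`
  have hinj : Function.Injective (algebraMap R K) := IsFractionRing.injective R K
  choose γ₀ hγ₀ using fun x : V₀ => (hV₀ x.1).1 x.2
  let γ : V₀ →+* R :=
    { toFun := γ₀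
      map_one' := hinj (by rw [hγ₀, map_one]; exact map_one ι.hom)
      map_mul' := fun x y => hinj (by
        rw [hγ₀, map_mul, hγ₀, hγ₀]
        exact map_mul ι.hom x.1 y.1)
      map_zero' := hinj (by rw [hγ₀, map_zero]; exact map_zero ι.hom)
      map_add' := fun x y => hinj (by
        rw [hγ₀, map_add, hγ₀, hγ₀]
        exact map_add ι.hom x.1 y.1) }
  have hγ : CommRingCat.ofHom γ ≫ CommRingCat.ofHom (algebraMap R K) =
      CommRingCat.ofHom (algebraMap V₀ κ) ≫ ι := by
    ext x
    exact hγ₀ x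
  -- `γ` is local
  have hloc : IsLocalHom γ := by
    constructor
    intro x hx
    obtain ⟨y, hy⟩ := hx.exists_right_inv
    have hx0 : x.1 ≠ 0 := by
      intro h0
      have h1 : x = 0 := Subtype.ext h0
      rw [h1, map_zero, zero_mul] at hy
      exact zero_ne_one hy
    have hinv : (x.1)⁻¹ ∈ V₀ := by
      rw [hV₀]
      refine ⟨y, ?_⟩
      have h2 : algebraMap R K (γ x) = ι.hom x.1 := hγ₀ x
      rw [map_inv₀, ← h2]
      refine eq_inv_of_mul_eq_one_left ?_
      rw [← map_mul, mul_comm, hy, map_one]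
    exact IsUnit.of_mul_eq_one ⟨_, hinv⟩ (Subtype.ext (mul_inv_cancel₀ hx0))
  have hmono : Mono (CommRingCat.ofHom (algebraMap R K)) :=
    ConcreteCategory.mono_of_injective _ hinj
  -- the map to `Y`
  obtain ⟨V, hV, hyV, -⟩ := exists_isAffineOpen_mem_and_subset
    (U := (⊤ : Y.Opens)) (x := i₂ (closedPoint R)) trivial
  obtain ⟨α, hα⟩ := factor' i₂ hV hyV
  have hξV : f ξ ∈ V := by
    have h1 : (i₁ ≫ f) (closedPoint (CommRingCat.of K)) ∈ V := by
      rw [comm, ← hα, ← Category.assoc, ← Spec.map_comp]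
      exact apply_mem hV _ _
    exact h1
  let ρ : Γ(Y, V) ⟶ X.residueField ξ := Y.evaluation V (f ξ) hξV ≫ f.residueFieldMap ξ
  have hρ : Spec.map ρ ≫ hV.fromSpec = X.fromSpecResidueField ξ ≫ f := by
    rw [← Scheme.Hom.SpecMap_residueFieldMap_fromSpecResidueField, Spec.map_comp, Category.assoc]
    congr 1
    rw [Scheme.evaluation, Spec.map_comp, Category.assoc, Scheme.fromSpecResidueField,
      ← hV.fromSpecStalk_eq_fromSpecStalk hξV, IsAffineOpen.fromSpecStalk]
  have hρι : ρ ≫ ι = α ≫ CommRingCat.ofHom (algebraMap R K) := by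
    apply hom_eq hV
    rw [Spec.map_comp, Category.assoc, hρ, ← Category.assoc, hι, comm, Spec.map_comp,
      Category.assoc, hα]
  have hρV₀ : ∀ r, ρ.hom r ∈ V₀ := by
    intro r
    rw [hV₀]
    exact ⟨α.hom r, congr($(hρι).hom r).symm⟩
  let ρ₀ : Γ(Y, V) →+* V₀ := ρ.hom.codRestrict V₀.toSubring hρV₀
  have hρ₀ : CommRingCat.ofHom ρ₀ ≫ CommRingCat.ofHom (algebraMap V₀ κ) = ρ := rfl
  have hρ₀γ : CommRingCat.ofHom ρ₀ ≫ CommRingCat.ofHom γ = α := by
    rw [← cancel_mono (CommRingCat.ofHom (algebraMap R K)), Category.assoc, hγ,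
      ← Category.assoc, hρ₀, hρι]
  have hi₂ : Spec.map (CommRingCat.ofHom γ) ≫ Spec.map (CommRingCat.ofHom ρ₀) ≫ hV.fromSpec =
      i₂ := by
    rw [← Category.assoc, ← Spec.map_comp, hρ₀γ, hα]
  have hc : (Spec.map (CommRingCat.ofHom ρ₀) ≫ hV.fromSpec) (closedPoint V₀) =
      i₂ (closedPoint R) := by
    have h1 : Spec.map (CommRingCat.ofHom γ) (closedPoint R) = closedPoint V₀ :=
      IsLocalRing.comap_closedPoint γ
    rw [← hi₂]
    refine Eq.trans ?_ (Scheme.Hom.comp_apply _ _ _).symm
    exact congrArg _ h1.symm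
  obtain ⟨l, hl₁, hl₂⟩ := exists_lift_of_dvr f κ (X.fromSpecResidueField ξ) ∅ (by
      rw [(surjective_stalkClosedPointTo_fromSpecResidueField ξ).range_eq]
      rw [eq_top_iff]
      exact fun x _ => Subfield.subset_closure (Or.inl trivial)) V₀
    (Spec.map (CommRingCat.ofHom ρ₀) ≫ hV.fromSpec)
    (by rw [← Category.assoc, ← Spec.map_comp, hρ₀, hρ])
    (fun V' hV' j₂ hj₂ hc' => H V' hV' j₂ hj₂ (hc'.trans hc))
  refine ⟨Spec.map (CommRingCat.ofHom γ) ≫ l, ?_, ?_⟩
  · rw [Category.assoc, hl₁, hi₂]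
  · rw [← Category.assoc, ← Spec.map_comp, hγ, Spec.map_comp, Category.assoc, hl₂, hι]

end Groth.Agent.Sga3.H825.DvrLift
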