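import Groth.Agent.Sga3B.BcIso
import Mathlib.RingTheory.TensorProduct.Basic
import Mathlib.AlgebraicGeometry.ResidueField
import Mathlib.AlgebraicGeometry.PullbackCarrier

/-!
# Geometric properties of group schemes over fields

`FProp`: a property of group schemes over fields which is invariant under isomorphisms and under
arbitrary extensions of the base field. `FibP P G`: all the fibres of `G` (at arbitrary points with
values in fields) have the property. `FProp.iff_of_apply_eq`: the property of the fibre at a
field-valued point only depends on the underlying point of the base.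
-/

set_option autoImplicit false
open CategoryTheory MonoidalCategory CartesianMonoidalCategory MonObj GrpObj AlgebraicGeometry
open CategoryTheory.Limits
universe u

namespace Groth.Agent.Sga3.H825.FibProp

open Groth.Agent.Sga3B

/-- A property of group schemes over fields, invariant under isomorphisms and extensions of the base
field. -/
structure FProp where
  /-- the property -/
  P : ∀ (k : Type u) [Field k] (G : Over (Spec (CommRingCat.of k))) [GrpObj G], Prop
  iso : ∀ (k : Type u) [Field k] (G G' : Over (Spec (CommRingCat.of k))) [GrpObj G] [GrpObj G'],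
    Nonempty (Grp.mk G ≅ Grp.mk G') → P k G → P k G'
  ext : ∀ (k k' : Type u) [Field k] [Field k'] (φ : k →+* k')
    (G : Over (Spec (CommRingCat.of k))) [GrpObj G],
    P k' (Red.bc (Spec.map (CommRingCat.ofHom φ)) G) ↔ P k G

/-- All the fibres of `G` have the property `P`. -/
def FibP (P : FProp.{u}) {S : Scheme.{u}} (G : Over S) [GrpObj G] : Prop :=
  ∀ (k : Type u) [Field k] (x : Spec (CommRingCat.of k) ⟶ S), P.P k (Red.bc x G)

variable (P : FProp.{u})

lemma FibP.bc {P : FProp.{u}} {S S' : Scheme.{u}} {G : Over S} [GrpObj G] (h : FibP P G)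
    (f : S' ⟶ S) : FibP P (Red.bc f G) := fun k _ x =>
  P.iso k _ _ ⟨BcIso.bcCompIso x f G⟩ (h k (x ≫ f))

lemma FibP.of_iso {P : FProp.{u}} {S : Scheme.{u}} {G G' : Over S} [GrpObj G] [GrpObj G']
    (h : FibP P G) (e : Grp.mk G ≅ Grp.mk G') : FibP P G' := fun k _ x =>
  P.iso k _ _ ⟨BcIso.bcMapIso x e⟩ (h k x)

/-- The property of a fibre does not change under extension of the field. -/
lemma FProp.comp_iff {S : Scheme.{u}} (G : Over S) [GrpObj G] {k k' : Type u} [Field k] [Field k']
    (φ : k →+* k') (x : Spec (CommRingCat.of k) ⟶ S) :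
    P.P k' (Red.bc (Spec.map (CommRingCat.ofHom φ) ≫ x) G) ↔ P.P k (Red.bc x G) := by
  rw [← P.ext k k' φ (Red.bc x G)]
  exact ⟨P.iso k' _ _ ⟨BcIso.bcCompIso _ x G⟩, P.iso k' _ _ ⟨(BcIso.bcCompIso _ x G).symm⟩⟩

/-- The fibre at a field-valued point and the fibre at the residue field of the image. -/
lemma FProp.residue_iff {S : Scheme.{u}} (G : Over S) [GrpObj G] {k : Type u} [Field k]
    (x : Spec (CommRingCat.of k) ⟶ S) (s : S) (hs : x (IsLocalRing.closedPoint k) = s) :
    P.P k (Red.bc x G) ↔ P.P (S.residueField s) (Red.bc (S.fromSpecResidueField s) G) := by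
  subst hs
  let θ : S.residueField (x (IsLocalRing.closedPoint k)) ⟶ CommRingCat.of k :=
    S.descResidueField (Scheme.stalkClosedPointTo x)
  have hθ : Spec.map θ ≫ S.fromSpecResidueField _ = x :=
    Scheme.descResidueField_stalkClosedPointTo_fromSpecResidueField k S x
  have h1 := P.comp_iff G θ.hom (S.fromSpecResidueField (x (IsLocalRing.closedPoint k)))
  have h2 : Spec.map (CommRingCat.ofHom θ.hom) ≫ S.fromSpecResidueField _ = x := hθ
  rw [← h1]
  exact ⟨P.iso k _ _ ⟨BcIso.bcCongrIso h2.symm G⟩, P.iso k _ _ ⟨BcIso.bcCongrIso h2 G⟩⟩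

/-- The property of the fibre at a field-valued point only depends on the underlying point. -/
lemma FProp.iff_of_apply_eq {S : Scheme.{u}} (G : Over S) [GrpObj G] {k k' : Type u} [Field k]
    [Field k'] (x : Spec (CommRingCat.of k) ⟶ S) (x' : Spec (CommRingCat.of k') ⟶ S)
    (h : x (IsLocalRing.closedPoint k) = x' (IsLocalRing.closedPoint k')) :
    P.P k (Red.bc x G) ↔ P.P k' (Red.bc x' G) := by
  rw [P.residue_iff G x _ rfl, P.residue_iff G x' _ h.symm]

/-- It is enough to consider the residue fields. -/
lemma fibP_of_residueField {S : Scheme.{u}} (G : Over S) [GrpObj G]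
    (h : ∀ s : S, P.P (S.residueField s) (Red.bc (S.fromSpecResidueField s) G)) : FibP P G :=
  fun _ _ x => (P.residue_iff G x _ rfl).2 (h _)

end Groth.Agent.Sga3.H825.FibProp
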