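import Groth.Agent.Sga3.H825.FibProp
import Groth.Agent.Sga3B.ParBc
import Groth.Agent.Sga3B.SplitBc264
import Groth.Agent.Sga3B.RG.BrCent
import Groth.Agent.Agf.H590.CentConn
import Groth.Prelude.Def_SGA3x

/-!
# Affine connected solvable groups with a self-centralizing torus

`QGrp k G`: the group scheme `G` over the field `k` is affine, connected, solvable and has a subtorus
which is its own centralizer. `qProp`: the geometric version, as an `FProp`.
-/

set_option autoImplicit false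
open CategoryTheory MonoidalCategory CartesianMonoidalCategory MonObj GrpObj AlgebraicGeometry
open CategoryTheory.Limits
open scoped TensorProduct
universe u

namespace Groth.Agent.Sga3.H825.FieldQ

open Groth.Agent.Sga3B FibProp

/-- affine connected solvable groups with a self-centralizing torus -/
structure QGrp (k : Type u) [Field k] (G : Over (Spec (CommRingCat.of k))) [GrpObj G] : Prop where
  affine : IsAffine G.left
  conn : ConnectedSpace G.left
  solv : Red.IsSolvableGrp G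
  tor : ∃ (T : Over (Spec (CommRingCat.of k))) (_ : GrpObj T) (i : T ⟶ G),
    Red.IsTorus T ∧ Red.IsCentralizerOf i i

variable {k k' : Type u} [Field k] [Field k']

lemma isCentralizerOf_comp_iso {S : Scheme.{u}} {T G G' : Over S} [GrpObj T] [GrpObj G]
    [GrpObj G'] {i : T ⟶ G} (h : Red.IsCentralizerOf i i) (e : G ≅ G') [IsMonHom e.hom] :
    Red.IsCentralizerOf (i ≫ e.hom) (i ≫ e.hom) := by
  have : IsMonHom e.symm.hom := inferInstanceAs (IsMonHom e.inv)
  exact _root_.Groth.Agent.Sga3B.RG.BrCent.isCentralizerOf_of_iso (i := i ≫ e.hom) (i' := i) (Iso.refl T) e.symm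
    (by simp) h

lemma QGrp.of_iso {G G' : Over (Spec (CommRingCat.of k))} [GrpObj G] [GrpObj G']
    (e : Grp.mk G ≅ Grp.mk G') (h : QGrp k G) : QGrp k G' := by
  obtain ⟨h1, h2, h3, T, _, i, hT, hi⟩ := h
  let f : G ≅ G' := (Grp.forget _).mapIso e
  have hf : IsMonHom f.hom := e.hom.hom.isMonHom_hom
  have hiso : IsIso f.hom.left := inferInstanceAs (IsIso ((Over.forget _).map f.hom))
  refine ⟨.of_isIso (inv f.hom.left), ?_, ParBc.isSolvableGrp_of_iso e h3, T, inferInstance,
    i ≫ f.hom, hT, isCentralizerOf_comp_iso hi f⟩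
  exact f.hom.left.homeomorph.surjective.connectedSpace f.hom.left.homeomorph.continuous

lemma QGrp.bc {G : Over (Spec (CommRingCat.of k))} [GrpObj G] (φ : k →+* k') (h : QGrp k G) :
    QGrp k' (Red.bc (Spec.map (CommRingCat.ofHom φ)) G) := by
  obtain ⟨h1, h2, h3, T, _, i, hT, hi⟩ := h
  refine ⟨inferInstanceAs (IsAffine (pullback G.hom (Spec.map (CommRingCat.ofHom φ)))), ?_,
    ParBc.isSolvableGrp_bc _ h3, _, inferInstance, (Over.pullback _).map i,
    TorusBc.isTorus_bc _ hT, SplitBc264.isCentralizerOf_bc _ hi⟩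
  exact (Groth.Agent.Agf.H590.CentConn.geometricallyConnected_of_grp k G).geometrically_connectedSpace
    _ _ _ (IsPullback.of_hasPullback G.hom _)

lemma exists_compositum (k k₁ k₂ : Type u) [Field k] [Field k₁] [Field k₂] (a : k →+* k₁)
    (b : k →+* k₂) : ∃ (Ω : Type u) (_ : Field Ω) (c : k₁ →+* Ω) (d : k₂ →+* Ω),
      c.comp a = d.comp b := by
  algebraize [a, b]
  obtain ⟨M, hM⟩ := Ideal.exists_maximal (k₁ ⊗[k] k₂)
  refine ⟨(k₁ ⊗[k] k₂) ⧸ M, Ideal.Quotient.field M,
    (Ideal.Quotient.mk M).comp Algebra.TensorProduct.includeLeftRingHom,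
    (Ideal.Quotient.mk M).comp (Algebra.TensorProduct.includeRight
      (R := k) (A := k₁) (B := k₂)).toRingHom, ?_⟩
  ext x
  simp only [RingHom.comp_apply]
  congr 1
  change (a x) ⊗ₜ[k] (1 : k₂) = (1 : k₁) ⊗ₜ[k] (b x)
  have h1 : a x = x • (1 : k₁) := by rw [Algebra.smul_def, _root_.mul_one]; rfl
  have h2 : b x = x • (1 : k₂) := by rw [Algebra.smul_def, _root_.mul_one]; rfl
  rw [h1, h2, TensorProduct.smul_tmul]

noncomputable def bcComp {k k' k'' : Type u} [Field k] [Field k'] [Field k''] (φ : k →+* k')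
    (ψ : k' →+* k'') (G : Over (Spec (CommRingCat.of k))) [GrpObj G] :
    Grp.mk (Red.bc (Spec.map (CommRingCat.ofHom (ψ.comp φ))) G) ≅
      Grp.mk (Red.bc (Spec.map (CommRingCat.ofHom ψ))
        (Red.bc (Spec.map (CommRingCat.ofHom φ)) G)) :=
  BcIso.bcCongrIso (by rw [← Spec.map_comp]; rfl) G ≪≫ BcIso.bcCompIso _ _ G

/-- the geometric version of `QGrp` -/
def qProp : FProp.{u} where
  P k _ G _ := ∃ (k' : Type u) (_ : Field k') (φ : k →+* k'),
    QGrp k' (Red.bc (Spec.map (CommRingCat.ofHom φ)) G)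
  iso := by
    rintro k _ G G' _ _ ⟨e⟩ ⟨k', _, φ, h⟩
    exact ⟨k', _, φ, h.of_iso (BcIso.bcMapIso _ e)⟩
  ext := by
    intro k k' _ _ φ G _
    constructor
    · rintro ⟨k₂, _, ψ, h⟩
      refine ⟨k₂, _, ψ.comp φ, h.of_iso (bcComp φ ψ G).symm⟩
    · rintro ⟨k₁, _, ψ, h⟩
      obtain ⟨Ω, _, c, d, hcd⟩ := exists_compositum k k₁ k' ψ φ
      refine ⟨Ω, _, d, ?_⟩
      have h1 := (h.bc c).of_iso (bcComp ψ c G).symm
      rw [hcd] at h1
      exact h1.of_iso (bcComp φ d G)

end Groth.Agent.Sga3.H825.FieldQ
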