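import Groth.Agent.Sga3.H825.FibProp
import Groth.Agent.Sga3.H825.DvrLift
import Groth.Agent.Sga3.H825.GrpModelDef
import Mathlib.AlgebraicGeometry.Morphisms.Smooth
import Mathlib.RingTheory.DiscreteValuationRing.Basic

/-!
# Lifting problems along monomorphisms of group schemes: reduction to discrete valuation rings

`DvrLift b P`, `ValLift b P`: for group schemes over a discrete valuation ring (a valuation ring)
`R`, `G` smooth with fibres satisfying `P`, `H` of finite presentation and a monomorphism
`u : G ⟶ H`, every `h ∈ H(R)` which generically comes from `G` comes from `G(R)`; if `b` holds we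
only consider those `h` whose closed point is in the image of `G`, if `b` does not hold we assume
that `H` is separated.  `valLift_of_dvrLift`: noetherian descent (`GDStmt`) reduces the second
statement to the first one.
-/

set_option autoImplicit false
open CategoryTheory MonoidalCategory CartesianMonoidalCategory MonObj GrpObj AlgebraicGeometry
open CategoryTheory.Limits IsLocalRing
universe u

namespace Groth.Agent.Sga3.H825.RedDvr

open Groth.Agent.Sga3B Groth.Agent.Sga3.H825.FibProp Groth.Agent.Sga3.H825.GrpModelDef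

/-- Noetherian descent of homomorphisms of finitely presented group schemes. -/
def GDStmt : Prop :=
  ∀ {A : Type u} [CommRing A] (G H : Over (Spec (CommRingCat.of A)))
    [GrpObj G] [GrpObj H] [LocallyOfFinitePresentation G.hom] [QuasiCompact G.hom]
    [QuasiSeparated G.hom] [LocallyOfFinitePresentation H.hom] [QuasiCompact H.hom]
    [QuasiSeparated H.hom] (u : G ⟶ H) [IsMonHom u],
    ∃ (A₀ : Type u) (_ : CommRing A₀) (_ : IsNoetherianRing A₀) (φ : A₀ →+* A)
      (M : HomModel u A₀ φ),
      LocallyOfFinitePresentation M.G₀.hom ∧ QuasiCompact M.G₀.hom ∧ QuasiSeparated M.G₀.hom ∧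
      LocallyOfFinitePresentation M.H₀.hom ∧ QuasiCompact M.H₀.hom ∧ QuasiSeparated M.H₀.hom ∧
      (Smooth G.hom → Smooth M.G₀.hom) ∧ (Mono u → Mono M.u₀) ∧
      (IsSeparated H.hom → IsSeparated M.H₀.hom)

/-- The lifting property for one valuation ring. -/
def LiftAt (b : Prop) (P : FProp.{u}) (R : Type u) [CommRing R] [IsDomain R] [ValuationRing R] :
    Prop :=
  ∀ (K : Type u) [Field K] [Algebra R K] [IsFractionRing R K]
    (G H : Over (Spec (CommRingCat.of R))) [GrpObj G] [GrpObj H] [Smooth G.hom]
    [QuasiCompact G.hom] [QuasiSeparated G.hom] [LocallyOfFinitePresentation H.hom]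
    [QuasiCompact H.hom] [QuasiSeparated H.hom] (u : G ⟶ H) [IsMonHom u] [Mono u]
    (g : Spec (CommRingCat.of K) ⟶ G.left) (h : Spec (CommRingCat.of R) ⟶ H.left),
    (¬ b → IsSeparated H.hom) → FibP P G → h ≫ H.hom = 𝟙 _ →
    g ≫ u.left = Spec.map (CommRingCat.ofHom (algebraMap R K)) ≫ h →
    (b → h (closedPoint R) ∈ Set.range u.left) →
    ∃ l : Spec (CommRingCat.of R) ⟶ G.left, l ≫ u.left = h

/-- The lifting property for discrete valuation rings. -/
def DvrLift (b : Prop) (P : FProp.{u}) : Prop :=
  ∀ (R : Type u) [CommRing R] [IsDomain R] [IsDiscreteValuationRing R], LiftAt b P R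

/-- The lifting property for valuation rings. -/
def ValLift (b : Prop) (P : FProp.{u}) : Prop :=
  ∀ (R : Type u) [CommRing R] [IsDomain R] [ValuationRing R], LiftAt b P R

section aux

variable {S : Scheme.{u}}

/-- A point of a discrete valuation ring with values in a field, which is not centred at the closed
point, is generic. -/
lemma eq_of_ne_closedPoint (V κ : Type u) [CommRing V] [IsDomain V] [IsDiscreteValuationRing V]
    [Field κ] [Algebra V κ] [IsFractionRing V κ] {y : PrimeSpectrum V} (hy : y ≠ closedPoint V) :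
    y = Spec.map (CommRingCat.ofHom (algebraMap V κ)) (closedPoint κ) := by
  have h1 : y.asIdeal = ⊥ := by
    by_contra h
    apply hy
    ext1
    exact IsLocalRing.eq_maximalIdeal (y.isPrime.isMaximal h)
  have h2 : (Spec.map (CommRingCat.ofHom (algebraMap V κ)) (closedPoint κ) :
      PrimeSpectrum V).asIdeal = ⊥ := by
    change Ideal.comap (algebraMap V κ) (maximalIdeal κ) = ⊥
    rw [IsLocalRing.maximalIdeal_eq_bot, ← RingHom.ker_eq_comap_bot]
    exact (RingHom.injective_iff_ker_eq_bot _).1 (IsFractionRing.injective V κ)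
  exact PrimeSpectrum.ext (h1.trans h2.symm)

lemma mono_left {X Y : Over S} (f : X ⟶ Y) [Mono f] : Mono f.left :=
  (Over.forget S).map_mono f

end aux

/-- **Reduction of the lifting property to discrete valuation rings.** -/
theorem valLift_of_dvrLift (hGD : GDStmt.{u}) (b : Prop) (P : FProp.{u}) (hD : DvrLift b P) :
    ValLift b P := by
  intro R _ _ _ K _ _ _ G H _ _ _ _ _ _ _ _ u _ _ g h' hsep hP hsec hcomm hcl
  have hlfpG : LocallyOfFinitePresentation G.hom := inferInstance
  obtain ⟨A₀, _, _, φ, M, hM1, hM2, hM3, hM4, hM5, hM6, hM7, hM8, hM9⟩ := hGD G H u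
  have hsm : Smooth M.G₀.hom := hM7 inferInstance
  have hmono : Mono M.u₀ := hM8 inferInstance
  have hmono' : Mono M.u₀.left := mono_left _
  let t : Spec (CommRingCat.of R) ⟶ Spec (CommRingCat.of A₀) := Spec.map (CommRingCat.ofHom φ)
  let pG : G.left ⟶ M.G₀.left := M.eG.inv.left ≫ pullback.fst _ _
  let pH : H.left ⟶ M.H₀.left := M.eH.inv.left ≫ pullback.fst _ _
  have hpu : pG ≫ M.u₀.left = u.left ≫ pH := by
    have h1 : M.eG.inv ≫ (Over.pullback t).map M.u₀ = u ≫ M.eH.inv := by
      rw [Iso.inv_comp_eq, ← Category.assoc, Iso.eq_comp_inv]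
      exact M.w
    have h2 := congrArg (fun z => z.left ≫ pullback.fst _ _) h1
    simp only [Over.comp_left, Category.assoc] at h2
    have h3 : ((Over.pullback t).map M.u₀).left ≫ pullback.fst M.H₀.hom t =
        pullback.fst M.G₀.hom t ≫ M.u₀.left := pullback.lift_fst _ _ _
    rw [h3] at h2
    simpa only [pG, pH, Category.assoc] using h2
  have hpG : pG ≫ M.G₀.hom = G.hom ≫ t := by
    have h1 : M.eG.inv.left ≫ pullback.snd M.G₀.hom t = G.hom := Over.w M.eG.inv
    rw [← h1, Category.assoc, Category.assoc, pullback.condition]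
  have hpH : pH ≫ M.H₀.hom = H.hom ≫ t := by
    have h1 : M.eH.inv.left ≫ pullback.snd M.H₀.hom t = H.hom := Over.w M.eH.inv
    rw [← h1, Category.assoc, Category.assoc, pullback.condition]
  have hLN : IsLocallyNoetherian M.H₀.left := LocallyOfFiniteType.isLocallyNoetherian M.H₀.hom
  have hw : M.u₀.left ≫ M.H₀.hom = M.G₀.hom := Over.w M.u₀
  have hlft : LocallyOfFiniteType M.u₀.left := by
    have : LocallyOfFiniteType (M.u₀.left ≫ M.H₀.hom) := by rw [hw]; infer_instance
    exact locallyOfFiniteType_of_comp _ M.H₀.hom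
  have hqc : QuasiCompact M.u₀.left := by
    have : QuasiCompact (M.u₀.left ≫ M.H₀.hom) := by rw [hw]; infer_instance
    exact QuasiCompact.of_comp _ M.H₀.hom
  -- properties of the fibres of the model over the points coming from `Spec R`
  have hPR : FibP P (Red.bc t M.G₀) := hP.of_iso
    (Grp.mkIso' M.eG).symm
  have hPt : ∀ (F : Type u) [Field F] (z : Spec (CommRingCat.of F) ⟶ Spec (CommRingCat.of R)),
      P.P F (Red.bc (z ≫ t) M.G₀) := fun F _ z =>
    P.iso F _ _ ⟨(BcIso.bcCompIso z t M.G₀).symm⟩ (hPR F z)
  obtain ⟨l, hl1, -⟩ := DvrLift.exists_lift_of_dvr_pt M.u₀.left R K (g ≫ pG) (h' ≫ pH)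
    (by rw [Category.assoc, hpu, reassoc_of% hcomm]) (by
      intro V hV j₂ hj₂ hc
      let ξ : M.G₀.left := (g ≫ pG) (closedPoint K)
      let κ : Type u := M.G₀.left.residueField ξ
      let x : Spec (CommRingCat.of V) ⟶ Spec (CommRingCat.of A₀) := j₂ ≫ M.H₀.hom
      let g' : Spec (CommRingCat.of κ) ⟶ (Red.bc x M.G₀).left :=
        pullback.lift (M.G₀.left.fromSpecResidueField ξ)
          (Spec.map (CommRingCat.ofHom (algebraMap V κ))) (by
            rw [← hw, reassoc_of% hj₂])
      let h'' : Spec (CommRingCat.of V) ⟶ (Red.bc x M.H₀).left :=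
        pullback.lift j₂ (𝟙 _) (by rw [Category.id_comp])
      have hu' : ((Over.pullback x).map M.u₀).left ≫ pullback.fst M.H₀.hom x =
        pullback.fst M.G₀.hom x ≫ M.u₀.left := pullback.lift_fst _ _ _
      have hu'' : ((Over.pullback x).map M.u₀).left ≫ pullback.snd M.H₀.hom x =
        pullback.snd M.G₀.hom x := pullback.lift_snd _ _ _
      have hpb : IsPullback (pullback.fst M.G₀.hom x) ((Over.pullback x).map M.u₀).left
          M.u₀.left (pullback.fst M.H₀.hom x) := by
        refine IsPullback.of_bot (v₂₁ := pullback.snd M.H₀.hom x) (v₂₂ := M.H₀.hom)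
          (h₃₁ := x) ?_ hu'.symm (IsPullback.of_hasPullback _ _)
        rw [hu'', hw]
        exact IsPullback.of_hasPullback _ _
      have hmonou : Mono ((Over.pullback x).map M.u₀) := inferInstance
      have hmonou' : Mono ((Over.pullback x).map M.u₀).left := mono_left _
      have i1 : Smooth (Red.bc x M.G₀).hom := inferInstanceAs (Smooth (pullback.snd M.G₀.hom x))
      have i2 : QuasiCompact (Red.bc x M.G₀).hom :=
        inferInstanceAs (QuasiCompact (pullback.snd M.G₀.hom x))
      have i3 : QuasiSeparated (Red.bc x M.G₀).hom :=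
        inferInstanceAs (QuasiSeparated (pullback.snd M.G₀.hom x))
      have i4 : LocallyOfFinitePresentation (Red.bc x M.H₀).hom :=
        inferInstanceAs (LocallyOfFinitePresentation (pullback.snd M.H₀.hom x))
      have i5 : QuasiCompact (Red.bc x M.H₀).hom :=
        inferInstanceAs (QuasiCompact (pullback.snd M.H₀.hom x))
      have i6 : QuasiSeparated (Red.bc x M.H₀).hom :=
        inferInstanceAs (QuasiSeparated (pullback.snd M.H₀.hom x))
      have hx1 : x (closedPoint V) = t (closedPoint R) := by
        have h1 : x (closedPoint V) = M.H₀.hom (j₂ (closedPoint V)) :=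
          Scheme.Hom.comp_apply _ _ _
        rw [h1, hc]
        have h2 : M.H₀.hom ((h' ≫ pH) (closedPoint R)) =
          ((h' ≫ pH) ≫ M.H₀.hom) (closedPoint R) := (Scheme.Hom.comp_apply _ _ _).symm
        rw [h2]
        have h3 : (h' ≫ pH) ≫ M.H₀.hom = t := by
          rw [Category.assoc, hpH, reassoc_of% hsec]
        rw [h3]
      have hx2 : Spec.map (CommRingCat.ofHom (algebraMap V κ)) ≫ x =
          M.G₀.left.fromSpecResidueField ξ ≫ M.G₀.hom := by
        rw [← hw, reassoc_of% hj₂]
      have hA : FibP P (Red.bc x M.G₀) := by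
        intro F _ y
        refine P.iso F _ _ ⟨BcIso.bcCompIso y x M.G₀⟩ ?_
        rcases eq_or_ne (y (closedPoint F)) (closedPoint V) with hy | hy
        · refine (P.iff_of_apply_eq M.G₀ (y ≫ x)
            (Spec.map (CommRingCat.ofHom (IsLocalRing.residue R)) ≫ t) ?_).2 (hPt _ _)
          have h1 : (y ≫ x) (closedPoint F) = x (y (closedPoint F)) := Scheme.Hom.comp_apply _ _ _
          have h2 : (Spec.map (CommRingCat.ofHom (IsLocalRing.residue R)) ≫ t)
              (closedPoint (ResidueField R)) = t (Spec.map (CommRingCat.ofHom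
                (IsLocalRing.residue R)) (closedPoint (ResidueField R))) :=
            Scheme.Hom.comp_apply _ _ _
          rw [h1, h2, hy, hx1]
          congr 1
          exact (IsLocalRing.comap_closedPoint (IsLocalRing.residue R)).symm
        · refine (P.iff_of_apply_eq M.G₀ (y ≫ x) ((g ≫ G.hom) ≫ t) ?_).2 (hPt _ _)
          have h1 : (y ≫ x) (closedPoint F) = x (y (closedPoint F)) := Scheme.Hom.comp_apply _ _ _
          have h2 : y (closedPoint F) =
              Spec.map (CommRingCat.ofHom (algebraMap V κ)) (closedPoint κ) :=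
            eq_of_ne_closedPoint V κ hy
          have h3 : x (Spec.map (CommRingCat.ofHom (algebraMap V κ)) (closedPoint κ)) =
              (Spec.map (CommRingCat.ofHom (algebraMap V κ)) ≫ x) (closedPoint κ) :=
            (Scheme.Hom.comp_apply _ _ _).symm
          rw [h1, h2, h3, hx2]
          have h4 : (M.G₀.left.fromSpecResidueField ξ ≫ M.G₀.hom) (closedPoint κ) =
              M.G₀.hom (M.G₀.left.fromSpecResidueField ξ (closedPoint κ)) :=
            Scheme.Hom.comp_apply _ _ _
          have h5 : M.G₀.left.fromSpecResidueField ξ (closedPoint κ) = ξ :=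
            Scheme.fromSpecResidueField_apply _ _
          rw [h4, h5]
          have h6 : M.G₀.hom ξ = ((g ≫ pG) ≫ M.G₀.hom) (closedPoint K) :=
            (Scheme.Hom.comp_apply _ _ _).symm
          rw [h6, Category.assoc, hpG, Category.assoc]
      have hB : g' ≫ ((Over.pullback x).map M.u₀).left =
          Spec.map (CommRingCat.ofHom (algebraMap V κ)) ≫ h'' := by
        apply pullback.hom_ext
        · rw [Category.assoc, hu', pullback.lift_fst_assoc, Category.assoc, pullback.lift_fst, hj₂]
        · rw [Category.assoc, hu'', pullback.lift_snd, Category.assoc, pullback.lift_snd,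
            Category.comp_id]
      have hC : b → h'' (closedPoint V) ∈ Set.range ((Over.pullback x).map M.u₀).left := by
        intro hb
        obtain ⟨z, hz⟩ := hcl hb
        have h1 : j₂ (closedPoint V) = M.u₀.left (pG z) := by
          rw [hc]
          have h2 : (h' ≫ pH) (closedPoint R) = pH (h' (closedPoint R)) :=
            Scheme.Hom.comp_apply _ _ _
          rw [h2, ← hz]
          have h3 : pH (u.left z) = (u.left ≫ pH) z := (Scheme.Hom.comp_apply _ _ _).symm
          rw [h3, ← hpu]
          exact Scheme.Hom.comp_apply _ _ _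
        have h2 : (pullback.fst M.H₀.hom x) (h'' (closedPoint V)) = M.u₀.left (pG z) := by
          rw [← h1]
          have h3 : h'' ≫ pullback.fst M.H₀.hom x = j₂ := pullback.lift_fst _ _ _
          rw [← h3]
          exact (Scheme.Hom.comp_apply _ _ _).symm
        obtain ⟨w, -, hw'⟩ := Scheme.exists_preimage_of_isPullback hpb (pG z)
          (h'' (closedPoint V)) h2.symm
        exact ⟨w, hw'⟩
      have hS : ¬ b → IsSeparated (Red.bc x M.H₀).hom := fun hb => by
        have := hM9 (hsep hb)
        exact inferInstanceAs (IsSeparated (pullback.snd M.H₀.hom x))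
      obtain ⟨l', hl'⟩ := hD V κ (Red.bc x M.G₀) (Red.bc x M.H₀) ((Over.pullback x).map M.u₀)
        g' h'' hS hA (pullback.lift_snd _ _ _) hB hC
      refine ⟨l' ≫ pullback.fst M.G₀.hom x, ?_, ?_⟩
      · rw [Category.assoc, ← hu', reassoc_of% hl']
        exact pullback.lift_fst _ _ _
      · rw [← cancel_mono M.u₀.left, hj₂, Category.assoc, Category.assoc, ← hu',
          reassoc_of% hl']
        congr 1
        exact pullback.lift_fst _ _ _)
  have hpbG : IsPullback pG G.hom M.G₀.hom t :=
    IsPullback.of_iso (IsPullback.of_hasPullback M.G₀.hom t) ((Over.forget _).mapIso M.eG)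
      (Iso.refl _) (Iso.refl _) (Iso.refl _) (by simp [pG]; rfl) (by simp; rfl) (by simp) (by simp)
  have hpbH : IsPullback pH H.hom M.H₀.hom t :=
    IsPullback.of_iso (IsPullback.of_hasPullback M.H₀.hom t) ((Over.forget _).mapIso M.eH)
      (Iso.refl _) (Iso.refl _) (Iso.refl _) (by simp [pH]; rfl) (by simp; rfl) (by simp) (by simp)
  have h1 : l ≫ M.G₀.hom = 𝟙 _ ≫ t := by
    rw [← hw, reassoc_of% hl1, hpH, reassoc_of% hsec, Category.id_comp]
  refine ⟨hpbG.lift l (𝟙 _) h1, ?_⟩
  apply hpbH.hom_ext
  · rw [Category.assoc, ← hpu, hpbG.lift_fst_assoc, hl1]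
  · rw [Category.assoc, Over.w, hpbG.lift_snd, hsec]

end Groth.Agent.Sga3.H825.RedDvr
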